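import Cfsg.Agent.Lib.Co2Type.Code.Decode
import Cfsg.Agent.Lib.Co2Type.Code.Edge.Data

/-!
The kernel checks for the edge of the second Conway recognition.
-/

set_option autoImplicit false
set_option maxRecDepth 100000
set_option maxHeartbeats 2000000

namespace Cfsg.Agent.Co2Type.Code.EdgeData

/-- The roots commuting with the edge, as words. -/
def rootW (i : ℕ) : List (Fin 15) := dec (rootD.getD i 0)

/-- Different from all the roots commuting with the edge. -/
noncomputable def notInB (w : List (Fin 15)) : Bool := rootDKey.all fun k => !Nat.beq (keyW w) k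

/-- One witness of a level. -/
noncomputable def rowB (pre : List (List (Fin 15) × List (Fin 15))) (x y : List (Fin 15))
    (Ws Vs : List (List ℕ)) (r : List (Fin 15)) (row : ℕ × ℕ) : Bool :=
  bif Nat.beq row.1 0 then
    commW (dec row.2) alphaW && (pre.all fun p => eqW (dec row.2 ++ p.2 ++ (dec row.2).reverse) p.2) &&
      eqW (dec row.2 ++ y ++ (dec row.2).reverse) r
  else bif Nat.beq row.1 1 then
    Nat.blt row.2 Ws.length && (eqW (patW (pre.map Prod.snd) r (Ws.getD row.2 [])) [] !=
      eqW (patW (pre.map Prod.fst) x (Ws.getD row.2 [])) [])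
  else Nat.blt row.2 Vs.length && notInB (patW (pre.map Prod.snd) r (Vs.getD row.2 []))

/-- The pairs before the levels. -/
def pre0 : List (List (Fin 15) × List (Fin 15)) := [(tauW, alphaW), (alphaW, tauW)]

/-- The data of the levels. -/
def lvs : List (List ℕ × List (List ℕ) × List (List ℕ) × List ℕ × List (ℕ × ℕ)) :=
  [(lv0, lv0W, lv0V, lv0Vi, lv0Rows), (lv1, lv1W, lv1V, lv1Vi, lv1Rows), (lv2, lv2W, lv2V, lv2Vi, lv2Rows),
    (lv3, lv3W, lv3V, lv3Vi, lv3Rows), (lv4, lv4W, lv4V, lv4Vi, lv4Rows), (lv5, lv5W, lv5V, lv5Vi, lv5Rows),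
    (lv6, lv6W, lv6V, lv6Vi, lv6Rows)]

/-- The source and target of a level. -/
def lvPair (L : List ℕ) : List (Fin 15) × List (Fin 15) := (dec (L.getD 0 0), dec (L.getD 1 0))

/-- The pairs known before a level. -/
def preOf (j : ℕ) : List (List (Fin 15) × List (Fin 15)) :=
  pre0 ++ (lvs.take j).map fun d => lvPair d.1

/-- The facts of the source of a level. -/
noncomputable def headB (j : ℕ) (d : List ℕ × List (List ℕ) × List (List ℕ) × List ℕ × List (ℕ × ℕ)) : Bool :=
  commW (lvPair d.1).1 alphaW && eqW (lvPair d.1).1 (srcI (decI 160 (d.1.getD 2 0))) &&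
    eqW (lvPair d.1).2 (tgtI (decI 160 (d.1.getD 2 0))) && Nat.blt (d.1.getD 3 0) 317 &&
    eqW (lvPair d.1).1 (rootW (d.1.getD 3 0)) &&
    (List.range d.2.2.1.length).all fun v => Nat.blt (d.2.2.2.1.getD v 0) 317 &&
      eqW (patW ((preOf j).map Prod.fst) (lvPair d.1).1 (d.2.2.1.getD v [])) (rootW (d.2.2.2.1.getD v 0))

/-- A level. -/
noncomputable def levelB (j : ℕ) (d : List ℕ × List (List ℕ) × List (List ℕ) × List ℕ × List (ℕ × ℕ)) : Bool :=
  (List.range 317).all fun i =>
    rowB (preOf j) (lvPair d.1).1 (lvPair d.1).2 d.2.1 d.2.2.1 (rootW i) (d.2.2.2.2.getD i (0, 0))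

theorem heads : ((List.range 7).all fun j => headB j (lvs.getD j ([], [], [], [], []))) = true := by
  decide +kernel

theorem keys : ((List.range 317).all fun i => Nat.beq (keyW (rootW i)) (rootDKey.getD i 0)) &&
    Nat.beq rootD.length 317 && Nat.beq rootDKey.length 317 = true := by decide +kernel

theorem level0 : levelB 0 (lv0, lv0W, lv0V, lv0Vi, lv0Rows) = true := by decide +kernel
theorem level1 : levelB 1 (lv1, lv1W, lv1V, lv1Vi, lv1Rows) = true := by decide +kernel
theorem level2 : levelB 2 (lv2, lv2W, lv2V, lv2Vi, lv2Rows) = true := by decide +kernel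
theorem level3 : levelB 3 (lv3, lv3W, lv3V, lv3Vi, lv3Rows) = true := by decide +kernel
theorem level4 : levelB 4 (lv4, lv4W, lv4V, lv4Vi, lv4Rows) = true := by decide +kernel
theorem level5 : levelB 5 (lv5, lv5W, lv5V, lv5Vi, lv5Rows) = true := by decide +kernel
theorem level6 : levelB 6 (lv6, lv6W, lv6V, lv6Vi, lv6Rows) = true := by decide +kernel

/-- The products of the rigid pairs. -/
def backW (is : List ℕ) : List (Fin 15) × List (Fin 15) :=
  (is.flatMap fun i => ((preOf 7).getD i ([], [])).1, is.flatMap fun i => ((preOf 7).getD i ([], [])).2)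

theorem basics : (eqW (tauW ++ tauW) [] && eqW (alphaW ++ alphaW) [] && !eqW tauW alphaW &&
    (List.finRange 15).all (fun z => commW tauW [z]) &&
    eqW (srcI tauIdx) tauW && eqW (tgtI tauIdx) alphaW &&
    eqW (srcI alphaIdx) alphaW && eqW (tgtI alphaIdx) tauW &&
    (pairsW.all fun p => pairsW.any fun q => eqW q.1 p.2 && eqW q.2 p.1) &&
    (pairsW.all fun p => commW p.1 alphaW) && Nat.beq backIdx.length pairsW.length &&
    (List.range pairsW.length).all fun i =>
      eqW (backW (backIdx.getD i [])).1 (pairsW.getD i ([], [])).1 &&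
        eqW (backW (backIdx.getD i [])).2 (pairsW.getD i ([], [])).2) = true := by decide +kernel

/-- The chain inside the centraliser of the edge. -/
def dChain : List (List (Fin 15) × List (List (Fin 15))) :=
  (List.range dY.length).map fun i => (dec (dY.getD i 0), (dG.getD i []).map fun n => srcI (decI 160 n))

theorem dChain_ok : (stepsB [] dChain && Nat.beq ((dChain.map fun p => p.2.length).prod * 2) 589824 &&
    (dChain.all fun p => commW p.1 tauW)) = true := by decide +kernel

/-- The chain inside the centraliser of the lift. -/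
def aChain : List (List (Fin 15) × List (List (Fin 15))) :=
  (List.range aY.length).map fun i => (dec (aY.getD i 0), (aG.getD i []).map dec)

theorem aChain_ok : (stepsB [] aChain && Nat.beq ((aChain.map fun p => p.2.length).prod * 2) 737280 &&
    (aChain.all fun p => commW p.1 tauW && p.2.all fun g => commW g rootAW) && commW tauW rootAW) = true := by
  decide +kernel

/-- The chain for the centre. -/
def cChain : List (List (Fin 15) × List (List (Fin 15))) :=
  (List.range centY.length).map fun i => (dec (centY.getD i 0), (centG.getD i []).map dec)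

theorem cChain_ok : (stepsB [] cChain && Nat.beq ((cChain.map fun p => p.2.length).prod * 4) 743178240 &&
    ((List.range centY.length).all fun i =>
      eqW (dec (centY.getD i 0)) (srcI (decI 160 (centYIdx.getD i 0)))) &&
    (cChain.all fun p => commW p.1 tauW && commW p.1 alphaW) &&
    distinctB [keyW [], keyW tauW, keyW alphaW, keyW (tauW ++ alphaW)]) = true := by decide +kernel

end Cfsg.Agent.Co2Type.Code.EdgeData
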