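import Cfsg.Agent.Lib.Co2Type.Code.Classes
import Cfsg.Agent.Lib.Co2Type.Edge

/-!
The code group has what the swap of the edge needs.
-/

set_option autoImplicit false
set_option maxRecDepth 100000

namespace Cfsg.Agent.Co2Type.Code

open EdgeData ClassData

/-- The facts about the small elements. -/
theorem edge_basics : tau * tau = 1 ∧ alpha * alpha = 1 ∧ tau ≠ alpha ∧ (∀ y, tau * y = y * tau) ∧
    (tau, alpha) ∈ pairGroup pairs ∧ (∀ p ∈ pairs, p.swap ∈ pairs) ∧ (∀ p ∈ pairs, p.1 * alpha = alpha * p.1) ∧
    (∀ y, y * alpha = alpha * y → ∃ z, (y, z) ∈ pairGroup pairs) := by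
  have hb := basics
  simp only [Bool.and_eq_true, List.all_eq_true, Bool.not_eq_true', List.any_eq_true] at hb
  obtain ⟨⟨⟨⟨⟨⟨⟨⟨⟨⟨⟨h1, h2⟩, h3⟩, -⟩, h5⟩, h6⟩, -⟩, -⟩, h9⟩, h10⟩, -⟩, -⟩ := hb
  refine ⟨?_, ?_, fun e => ?_, fun y => ?_, ?_, fun p hp => ?_, fun p hp => ?_, fun y hy => ?_⟩
  · rw [tau, ← el_append, of_eqW h1]; rfl
  · rw [alpha, ← el_append, of_eqW h2]; rfl
  · rw [tau, alpha, ← eqW_iff] at e
    rw [e] at h3
    cases h3
  · have hτ : tau = SemidirectProduct.inl zt := code_injective (by
      rw [tau, code_el]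
      exact (show codeW tauW = (256, stdImg) by decide +kernel))
    have hz : ∀ a : Q8, zt * a = a * zt := fun a => Q8.ext (by
      have h1 : beta 256 a.n = false := by simp [beta, show (256 : ℕ).testBit 7 = false by decide,
        show (256 : ℕ).testBit 6 = false by decide, show (256 : ℕ).testBit 5 = false by decide,
        show (256 : ℕ).testBit 4 = false by decide]
      have h2 : beta a.n 256 = false := by simp [beta, show (256 : ℕ).testBit 0 = false by decide,
        show (256 : ℕ).testBit 1 = false by decide, show (256 : ℕ).testBit 2 = false by decide,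
        show (256 : ℕ).testBit 3 = false by decide]
      show qmulN 256 a.n = qmulN a.n 256
      rw [qmulN_eq, qmulN_eq, h1, h2, Nat.xor_comm 256])
    rw [hτ]
    refine SemidirectProduct.ext ?_ (by simp)
    simp only [SemidirectProduct.mul_left, SemidirectProduct.left_inl, SemidirectProduct.right_inl,
      map_one, MulAut.one_apply, Subgroup.coe_subtype, map_zt, hz]
  · have := pairI_mem tauIdx
    rwa [of_eqW h5, of_eqW h6] at this
  · obtain ⟨q, hq, rfl⟩ := List.mem_map.1 hp
    obtain ⟨q', hq', e⟩ := h9 q hq
    exact List.mem_map.2 ⟨q', hq', Prod.ext (of_eqW e.1) (of_eqW e.2)⟩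
  · obtain ⟨q, hq, rfl⟩ := List.mem_map.1 hp
    exact of_commW (h10 q hq)
  · have hm : y ∈ Chain.cent [alpha] := Chain.mem_cent.2 fun w hw => by
      rw [List.mem_singleton.1 hw]; exact hy.symm
    rw [← pairs_fst_eq.1] at hm
    obtain ⟨p, hp, rfl⟩ := hm
    exact ⟨p.2, hp⟩

theorem alpha_root : Root alpha := Or.inr (Or.inr (IsConj.refl _))

theorem root_conj (d y : C0) (h : Root y) : Root (d * y * d⁻¹) := by
  rcases h with rfl | h | h
  · exact Or.inl (by rw [← edge_basics.2.2.2.1 d, mul_inv_cancel_right])
  · exact Or.inr (Or.inl (h.trans (isConj_iff.2 ⟨d, rfl⟩)))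
  · exact Or.inr (Or.inr (h.trans (isConj_iff.2 ⟨d, rfl⟩)))

/-- A level in the group. -/
noncomputable def lvG (d : List ℕ × List (List ℕ) × List (List ℕ) × List ℕ × List (ℕ × ℕ)) :
    (C0 × C0) × List (List (Option ℕ)) × List (List (Option ℕ)) :=
  ((el (lvPair d.1).1, el (lvPair d.1).2), d.2.1.map (List.map optI), d.2.2.1.map (List.map optI))

/-- The pairs before a level, in the group. -/
noncomputable def preG (j : ℕ) : List (C0 × C0) := (preOf j).map fun p => (el p.1, el p.2)

theorem level_of {j : ℕ} {d : List ℕ × List (List ℕ) × List (List ℕ) × List ℕ × List (ℕ × ℕ)}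
    (hh : headB j d = true) (hl : levelB j d = true) :
    Rigid.Level alpha Root (preG j) (el (lvPair d.1).1, el (lvPair d.1).2)
      (d.2.1.map (List.map optI), d.2.2.1.map (List.map optI)) := by
  have hfst : (preG j).map Prod.fst = ((preOf j).map Prod.fst).map el := by
    simp [preG, List.map_map, Function.comp_def]
  have hsnd : (preG j).map Prod.snd = ((preOf j).map Prod.snd).map el := by
    simp [preG, List.map_map, Function.comp_def]
  simp only [headB, Bool.and_eq_true, List.all_eq_true, List.mem_range, Nat.blt_eq] at hh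
  obtain ⟨⟨⟨⟨⟨hc, -⟩, -⟩, hi⟩, hx⟩, hV⟩ := hh
  refine ⟨of_commW hc, (of_eqW hx).symm ▸ root_rootW hi, fun V hV' => ?_, fun r hr hR hW hRV => ?_⟩
  · obtain ⟨V, hV'', rfl⟩ := List.mem_map.1 hV'
    obtain ⟨v, hv, rfl⟩ := List.getElem_of_mem hV''
    obtain ⟨h1, h2⟩ := hV v hv
    rw [List.getD_eq_getElem?_getD, List.getElem?_eq_getElem hv, Option.getD_some] at h2
    rw [hfst, el_patW, of_eqW h2]
    exact root_rootW h1
  · obtain ⟨i, hi', rfl⟩ := exists_rootW hR hr
    have hrow := List.all_eq_true.1 hl i (List.mem_range.2 hi')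
    simp only at hW hRV
    unfold rowB at hrow
    generalize d.2.2.2.2.getD i (0, 0) = row at hrow
    rcases h0 : Nat.beq row.1 0 with _ | _
    · rw [h0, cond_false] at hrow
      exfalso
      rcases h1 : Nat.beq row.1 1 with _ | _
      · rw [h1, cond_false, Bool.and_eq_true, Nat.blt_eq] at hrow
        obtain ⟨hj, hn⟩ := hrow
        have hroot := hRV _ (List.mem_map.2 ⟨_, List.getElem_mem hj, rfl⟩)
        rw [List.getD_eq_getElem?_getD, List.getElem?_eq_getElem hj, Option.getD_some] at hn
        rw [hsnd, el_patW] at hroot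
        set w := patW ((preOf j).map Prod.snd) (rootW i) d.2.2.1[row.2]
        have hwc : el w * alpha = alpha * el w := by
          have hpre : ∀ q ∈ (preOf j).map Prod.snd, el q * alpha = alpha * el q := fun q hq => by
            obtain ⟨p, hp, rfl⟩ := List.mem_map.1 hq
            have := List.all_eq_true.1 pre_comm p (by
              unfold preOf at hp
              rcases List.mem_append.1 hp with h | h
              · exact List.mem_append_left _ h
              · exact List.mem_append_right _ ((List.map_subset _ (List.take_subset _ _)) h))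
            exact of_commW this
          simp only [w, patW]
          induction d.2.2.1[row.2] with
          | nil => simp [el]
          | cons o W ih =>
            rw [List.flatMap_cons, el_append]
            refine (Commute.mul_left ?_ ih : Commute _ alpha)
            rcases Nat.beq o 0 with _ | _
            · simp only [cond_false, List.getD_eq_getElem?_getD]
              rcases hq : ((preOf j).map Prod.snd)[o.sub 1]? with _ | q
              · simp [el, Commute]
              · exact hpre q (List.mem_of_getElem? hq)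
            · exact hr
        obtain ⟨k, hk, e⟩ := exists_rootW hroot hwc
        have hkeys := keys
        simp only [Bool.and_eq_true, List.all_eq_true, List.mem_range, Nat.beq_eq, decide_eq_true_eq] at hkeys
        have hk' : k < rootDKey.length := by omega
        have := List.all_eq_true.1 hn _ (List.getElem_mem hk')
        rw [keyW_congr e, hkeys.1.1 k hk, List.getD_eq_getElem?_getD, List.getElem?_eq_getElem hk'] at this
        simp at this
      · rw [h1, cond_true, Bool.and_eq_true, Nat.blt_eq] at hrow
        obtain ⟨hj, hn⟩ := hrow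
        have hiff := hW _ (List.mem_map.2 ⟨_, List.getElem_mem hj, rfl⟩)
        rw [List.getD_eq_getElem?_getD, List.getElem?_eq_getElem hj, Option.getD_some] at hn
        rw [hfst, hsnd, el_patW, el_patW, ← el_nil, ← eqW_iff, ← eqW_iff, Bool.eq_iff_iff.symm] at hiff
        simp [hiff] at hn
    · rw [h0, cond_true] at hrow
      simp only [Bool.and_eq_true, List.all_eq_true] at hrow
      refine ⟨el (dec row.2), of_commW hrow.1.1, fun p hp => ?_, ?_⟩
      · obtain ⟨q, hq, rfl⟩ := List.mem_map.1 hp
        rw [el_conj]
        exact of_eqW (hrow.1.2 q hq)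
      · rw [el_conj]
        exact of_eqW hrow.2

theorem levels : Rigid.Levels alpha Root (preG 0) (lvs.map lvG) := by
  have hh := List.all_eq_true.1 heads
  exact ⟨level_of (hh 0 (by decide)) level0, level_of (hh 1 (by decide)) level1,
    level_of (hh 2 (by decide)) level2, level_of (hh 3 (by decide)) level3, level_of (hh 4 (by decide)) level4,
    level_of (hh 5 (by decide)) level5, level_of (hh 6 (by decide)) level6, trivial⟩

theorem rigid (ψ : C0 → C0) (hmap : ∀ y, y * alpha = alpha * y → ψ y * alpha = alpha * ψ y)
    (hmul : ∀ y z, y * alpha = alpha * y → z * alpha = alpha * z → ψ (y * z) = ψ y * ψ z)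
    (hinj : ∀ y z, y * alpha = alpha * y → z * alpha = alpha * z → ψ y = ψ z → y = z)
    (h1 : ψ tau = alpha) (h2 : ψ alpha = tau) (hR : ∀ y, y * alpha = alpha * y → Root y → Root (ψ y)) :
    ∃ d, d * alpha = alpha * d ∧ ∀ p ∈ pairs, ψ p.1 = d * p.2 * d⁻¹ := by
  obtain ⟨d, hd, h⟩ := Rigid.exists_inner root_conj (lvs.map lvG) (preG 0) ψ levels
    (fun p hp => by
      simp only [preG, preOf, pre0, List.take_zero, List.map_nil, List.append_nil, List.map_cons,
        List.mem_cons, List.not_mem_nil, or_false] at hp
      rcases hp with rfl | rfl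
      · exact edge_basics.2.2.2.1 alpha
      · rfl)
    hmap hmul hinj hR (fun p hp => by
      simp only [preG, preOf, pre0, List.take_zero, List.map_nil, List.append_nil, List.map_cons,
        List.mem_cons, List.not_mem_nil, or_false] at hp
      rcases hp with rfl | rfl
      · exact h1
      · exact h2)
  refine ⟨d, hd, fun p hp => ?_⟩
  have hpre : ∀ p ∈ preOf 7, el p.1 * alpha = alpha * el p.1 ∧ ψ (el p.1) = d * el p.2 * d⁻¹ := fun p hp => by
    refine ⟨?_, ?_⟩
    · have := List.all_eq_true.1 pre_comm₁ p hp
      exact of_commW this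
    · refine h (el p.1, el p.2) ?_
      have : (el p.1, el p.2) ∈ preG 7 := List.mem_map.2 ⟨p, hp, rfl⟩
      simpa [preG, preOf, lvs, lvG, Function.comp_def] using this
  have hback : ∀ is : List ℕ, el (backW is).1 * alpha = alpha * el (backW is).1 ∧
      ψ (el (backW is).1) = d * el (backW is).2 * d⁻¹ := by
    have c1 : (1 : C0) * alpha = alpha * 1 := by rw [one_mul, mul_one]
    have h1' : ψ 1 = 1 := by
      have := hmul 1 1 c1 c1
      rw [one_mul] at this
      exact mul_left_cancel (this.symm.trans (mul_one _).symm)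
    intro is
    induction is with
    | nil => exact ⟨c1, by simp [backW, el, h1']⟩
    | cons i is ih =>
      have hi : el ((preOf 7).getD i ([], [])).1 * alpha = alpha * el ((preOf 7).getD i ([], [])).1 ∧
          ψ (el ((preOf 7).getD i ([], [])).1) = d * el ((preOf 7).getD i ([], [])).2 * d⁻¹ := by
        rcases hq : (preOf 7)[i]? with _ | q
        · rw [List.getD_eq_getElem?_getD, hq]
          exact ⟨c1, by simp [el, h1']⟩
        · rw [List.getD_eq_getElem?_getD, hq]
          exact hpre q (List.mem_of_getElem? hq)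
      simp only [backW, List.flatMap_cons, el_append] at ih ⊢
      refine ⟨(Commute.mul_left (hi.1 : Commute _ alpha) (ih.1 : Commute _ alpha)), ?_⟩
      rw [hmul _ _ hi.1 ih.1, hi.2, ih.2]
      group
  obtain ⟨q, hq, rfl⟩ := List.mem_map.1 hp
  obtain ⟨i, hi, rfl⟩ := List.getElem_of_mem hq
  have hb := basics
  simp only [Bool.and_eq_true, List.all_eq_true, List.mem_range] at hb
  obtain ⟨e1, e2⟩ := hb.2 i hi
  rw [show pairsW.getD i ([], []) = pairsW[i] by simp [List.getD_eq_getElem?_getD, hi]] at e1 e2
  show ψ (el pairsW[i].1) = d * el pairsW[i].2 * d⁻¹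
  rw [← of_eqW e1, ← of_eqW e2]
  exact (hback _).2

theorem centre (z : C0) (hz : ∀ y, y * alpha = alpha * y → z * y = y * z) :
    z = 1 ∨ z = tau ∨ z = alpha ∨ z = tau * alpha := by
  classical
  haveI := finite_C0
  have hb := edge_basics
  have h := cChain_ok
  simp only [Bool.and_eq_true, List.all_eq_true, Nat.beq_eq, List.mem_range] at h
  obtain ⟨⟨⟨⟨hs, hp⟩, hy⟩, hc⟩, hd⟩ := h
  have hnd : ([1, tau, alpha, tau * alpha] : List C0).Nodup := by
    have := nodup_of_distinct (l := [[], tauW, alphaW, tauW ++ alphaW]) hd
    simpa [el_append, el_nil, tau, alpha] using this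
  have := Chain.mem_of_steps (L := [1, tau, alpha, tau * alpha]) (steps_of_stepsB cChain [] hs) hnd
    (fun x hx p hp' => by
      obtain ⟨q, hq, rfl⟩ := List.mem_map.1 hp'
      have h1 : Commute (el q.1) tau := of_commW (hc q hq).1
      have h2 : Commute (el q.1) alpha := of_commW (hc q hq).2
      simp only [List.mem_cons, List.not_mem_nil, or_false] at hx
      rcases hx with rfl | rfl | rfl | rfl
      exacts [(Commute.one_right (el q.1)).eq, h1.eq, h2.eq, (h1.mul_right h2).eq])
    (by
      rw [card_C0, List.map_map]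
      simp only [Function.comp_def, List.length_map, List.length_cons, List.length_nil]
      omega)
    (x := z) fun p hp' => by
      obtain ⟨q, hq, rfl⟩ := List.mem_map.1 hp'
      obtain ⟨i, hi, rfl⟩ := List.mem_map.1 hq
      refine (hz _ ?_).symm
      rw [of_eqW (hy i (List.mem_range.1 hi))]
      have hm : el (srcI (decI 160 (centYIdx.getD i 0))) ∈ Chain.cent [alpha] :=
        pairs_fst_le ⟨_, pairI_mem _, rfl⟩
      exact (Chain.mem_cent.1 hm alpha (List.mem_singleton.2 rfl)).symm
  simpa using this

/-- The code group has what the swap of the edge needs. -/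
theorem edgeCode : EdgeCode tau alpha pairs Root where
  tau_sq := edge_basics.1
  alpha_sq := edge_basics.2.1
  ne := edge_basics.2.2.1
  tau_central := edge_basics.2.2.2.1
  alpha_root := alpha_root
  tau_alpha := edge_basics.2.2.2.2.1
  pair_swap := edge_basics.2.2.2.2.2.1
  pair_mem := edge_basics.2.2.2.2.2.2.1
  gen := edge_basics.2.2.2.2.2.2.2
  alpha_class := fun c hc hne hcard => by
    have conv : ∀ x : C0, Nat.card {y : C0 // y * x = x * y} = Nat.card (Chain.cent [x]) := fun x =>
      Nat.card_congr (Equiv.subtypeEquivRight fun y =>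
        ⟨fun h => Chain.mem_cent.2 fun w hw => by rw [List.mem_singleton.1 hw]; exact h.symm,
          fun h => (Chain.mem_cent.1 h x (List.mem_singleton.2 rfl)).symm⟩)
    rcases hc with h | h | h
    · exact absurd h hne
    · exfalso
      obtain ⟨g, rfl⟩ := isConj_iff.1 h
      have e : Nat.card (Chain.cent [g * el rootAW * g⁻¹]) = Nat.card (Chain.cent [el rootAW]) := by
        refine Nat.card_congr (((MulAut.conj g⁻¹).toEquiv.subtypeEquiv fun y => ?_))
        simp only [Chain.mem_cent, List.mem_singleton, forall_eq, MulEquiv.toEquiv_eq_coe,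
          MulEquiv.coe_toEquiv, MulAut.conj_apply, inv_inv]
        constructor <;> intro hh
        · calc el rootAW * (g⁻¹ * y * g) = g⁻¹ * (g * el rootAW * g⁻¹ * y) * g := by group
            _ = g⁻¹ * (y * (g * el rootAW * g⁻¹)) * g := by rw [hh]
            _ = _ := by group
        · calc g * el rootAW * g⁻¹ * y = g * (el rootAW * (g⁻¹ * y * g)) * g⁻¹ := by group
            _ = g * (g⁻¹ * y * g * el rootAW) * g⁻¹ := by rw [hh]
            _ = _ := by group
      rw [conv, conv, e] at hcard
      have := card_cent_lift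
      have := pairs_fst_eq.2
      omega
    · obtain ⟨g, e⟩ := isConj_iff.1 h
      exact ⟨g⁻¹, by rw [← e]; group⟩
  rigid := rigid
  centre := centre

end Cfsg.Agent.Co2Type.Code
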